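import Cfsg.Agent.FGS4.AlperinAutomizer.Subgroups
import Cfsg.Agent.Core.BurnsidePQ
import Cfsg.Agent.PLocal.Factorizable
import Cfsg.Agent.S0618

/-! # Characteristic subgroups of a Sylow subgroup of a `{p, q}`-group with `q` in their automizer -/

set_option linter.style.haveILetI false

namespace Cfsg.Agent.FGS4.AlperinAutomizer

open Subgroup Cfsg

universe u

variable {p q : ℕ} [hp : Fact p.Prime] [hq : Fact q.Prime]

theorem isPSolvable_of_twoPrime {L : Type u} [Group L] [Finite L] (h : TwoPrime p q (Nat.card L)) :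
    IsPSolvable p L := by
  haveI : Group.IsSolvable L := Core.isSolvable_of_card_dvd_two_primes hp.out hq.out
    (a := Nat.card L) (b := Nat.card L) (by
      rw [← Nat.factorization_prime_le_iff_dvd Nat.card_pos.ne'
        (Nat.mul_ne_zero (pow_ne_zero _ hp.out.ne_zero) (pow_ne_zero _ hq.out.ne_zero))]
      intro t ht
      by_cases htd : t ∣ Nat.card L
      · have hlt : (Nat.card L).factorization t ≤ Nat.card L := (Nat.factorization_lt t Nat.card_pos.ne').le
        rw [Nat.factorization_mul (pow_ne_zero _ hp.out.ne_zero) (pow_ne_zero _ hq.out.ne_zero),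
          Finsupp.add_apply]
        rcases h t ht htd with rfl | rfl <;> rw [Nat.factorization_pow_self ht] <;> omega
      · simp [Nat.factorization_eq_zero_of_not_dvd htd])
  exact Core.isPSolvable_of_isSolvable

theorem three_dvd_card_sl2_two : 3 ∣ Nat.card (Matrix.SpecialLinearGroup (Fin 2) (ZMod 2)) := by
  let g : Matrix.SpecialLinearGroup (Fin 2) (ZMod 2) := ⟨!![0, 1; 1, 1], by decide⟩
  have h : orderOf g = 3 := orderOf_eq_prime (by decide) fun h => absurd (congrArg Subtype.val h) (by decide)
  exact (dvd_of_eq h.symm).trans (_root_.orderOf_dvd_natCard g)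

theorem two_dvd_card_sl2_three : 2 ∣ Nat.card (Matrix.SpecialLinearGroup (Fin 2) (ZMod 3)) := by
  let g : Matrix.SpecialLinearGroup (Fin 2) (ZMod 3) := ⟨!![2, 0; 0, 2], by decide⟩
  have h : orderOf g = 2 := orderOf_eq_prime (by decide) fun h => absurd (congrArg Subtype.val h) (by decide)
  exact (dvd_of_eq h.symm).trans (_root_.orderOf_dvd_natCard g)

theorem factorizable_of_twoPrime (hpq : p ≠ q) (h23 : ¬ ((p = 2 ∧ q = 3) ∨ (p = 3 ∧ q = 2)))
    {L : Type u} [Group L] [Finite L] (h : TwoPrime p q (Nat.card L)) (hO : pPrimeCore p L = ⊥) :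
    IsThompsonFactorizable p L := by
  by_contra hnf
  obtain ⟨hp23, E, -, -, -, hn, ⟨e⟩⟩ := S0618.result (isPSolvable_of_twoPrime h) hO hnf
  haveI := hn
  have hd : Nat.card (Matrix.SpecialLinearGroup (Fin 2) (ZMod p)) ∣ Nat.card L := by
    rw [← Nat.card_congr e.toEquiv, ← index_eq_card]
    exact ((Subgroup.index_dvd_card _).trans (Subgroup.card_subgroup_dvd_card E))
  rcases hp23 with rfl | rfl
  · have h3 := h 3 Nat.prime_three (three_dvd_card_sl2_two.trans hd)
    exact h23 (Or.inl ⟨rfl, (h3.resolve_left (by decide)).symm⟩)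
  · have h2 := h 2 Nat.prime_two (two_dvd_card_sl2_three.trans hd)
    exact h23 (Or.inr ⟨rfl, (h2.resolve_left (by decide)).symm⟩)

/-- Preimages of characteristic subgroups along a surjection with characteristic kernel. -/
theorem characteristic_comap {S S' : Type*} [Group S] [Group S'] (f : S →* S')
    (hf : Function.Surjective f) (hk : f.ker.Characteristic) {X : Subgroup S'} (hX : X.Characteristic) :
    (X.comap f).Characteristic := by
  refine characteristic_iff_comap_eq.2 fun φ => ?_
  let e := QuotientGroup.quotientKerEquivOfSurjective f hf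
  let ψ : S' ≃* S' :=
    e.symm.trans ((QuotientGroup.congr f.ker f.ker φ (characteristic_iff_map_eq.1 hk φ)).trans e)
  have hψ : ∀ s, ψ (f s) = f (φ s) := by
    intro s
    have h1 : e.symm (f s) = (s : S ⧸ f.ker) := e.symm_apply_eq.2 rfl
    show e (QuotientGroup.congr f.ker f.ker φ (characteristic_iff_map_eq.1 hk φ) (e.symm (f s))) = f (φ s)
    rw [h1]
    rfl
  ext s
  simp only [mem_comap, MulEquiv.coe_toMonoidHom]
  have := Subgroup.ext_iff.1 (characteristic_iff_comap_eq.1 hX ψ) (f s)
  rw [mem_comap, MulEquiv.coe_toMonoidHom, hψ] at this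
  exact this

/-- `q` divides the automizer of some characteristic subgroup of `S`. -/
def HasChar (p q : ℕ) {L : Type u} [Group L] (S : Subgroup L) : Prop :=
  ∃ K : Subgroup L, K ≤ S ∧ (K.subgroupOf S).Characteristic ∧
    q ∣ (centralizer (K : Set L)).relIndex (normalizer (K : Set L))

theorem hasChar_lift {L : Type u} [Group L] [Finite L] (S : Subgroup L) (M : Subgroup L) [M.Normal]
    (hchar : (M.subgroupOf S).Characteristic) (hSp : IsPGroup p S)
    (hM : (Nat.card M).Coprime p ∨ M ≤ S)
    (h : HasChar p q (S.map (QuotientGroup.mk' M))) : HasChar p q S := by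
  obtain ⟨K', hK', hc', hd⟩ := h
  set π := QuotientGroup.mk' M with hπ
  refine ⟨S ⊓ K'.comap π, inf_le_left, ?_, ?_⟩
  · have h1 := characteristic_comap (π.subgroupMap S) (π.subgroupMap_surjective S)
      (by
        have : (π.subgroupMap S).ker = M.subgroupOf S := by
          ext ⟨x, hx⟩
          simp only [MonoidHom.mem_ker, mem_subgroupOf, Subtype.ext_iff, OneMemClass.coe_one,
            MonoidHom.subgroupMap_apply_coe, hπ, QuotientGroup.mk'_apply, QuotientGroup.eq_one_iff]
        rw [this]; exact hchar) hc'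
    have h2 : (S ⊓ K'.comap π).subgroupOf S = (K'.subgroupOf (S.map π)).comap (π.subgroupMap S) := by
      ext ⟨x, hx⟩
      simp [mem_subgroupOf, hx]
    rw [h2]; exact h1
  · set K := S ⊓ K'.comap π with hK
    have hmap : K.map π = K' := by
      refine le_antisymm (map_le_iff_le_comap.2 inf_le_right) fun y hy => ?_
      obtain ⟨x, hx, rfl⟩ := hK' hy
      exact mem_map_of_mem _ ⟨hx, hy⟩
    have hnorm : (normalizer (K : Set L)).map π = normalizer (K' : Set (L ⧸ M)) := by
      refine le_antisymm ?_ fun y hy => ?_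
      · rw [← hmap]; exact le_normalizer_map π
      obtain ⟨g, rfl⟩ := QuotientGroup.mk'_surjective M y
      have hg : ∀ t ∈ K, g * t * g⁻¹ ∈ K ⊔ M := by
        intro t ht
        have h1 : π (g * t * g⁻¹) ∈ K' := by
          rw [map_mul, map_mul, map_inv]
          exact (mem_normalizer_iff.1 hy (π t)).1 ht.2
        obtain ⟨x, hx, hxe⟩ := hmap.ge h1
        have h2 : x⁻¹ * (g * t * g⁻¹) ∈ M := QuotientGroup.eq.1 hxe
        have h3 := mul_mem_sup hx h2
        rwa [mul_inv_cancel_left] at h3
      rcases hM with hM | hM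
      · obtain ⟨k, hk, hkg⟩ := Core.ThompsonComplement.exists_mul_normalizes (hSp.to_le inf_le_left) hM hg
        refine ⟨k * g, hkg, ?_⟩
        rw [map_mul, show π k = 1 from (QuotientGroup.eq_one_iff k).2 hk, one_mul]
      · have hMK : M ≤ K := le_inf hM ((QuotientGroup.ker_mk' M).ge.trans (MonoidHom.ker_le_comap _ _))
        rw [sup_eq_left.2 hMK] at hg
        exact ⟨g, mem_normalizer_fintype hg, rfl⟩
    rw [← hnorm, ← relIndex_comap] at hd
    refine hd.trans (relIndex_dvd_of_le_left _ fun c hc => ?_)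
    rw [mem_comap, mem_centralizer_iff, ← hmap]
    rintro _ ⟨t, ht, rfl⟩
    rw [← map_mul, ← map_mul, mem_centralizer_iff.1 hc t ht]

theorem pow_eq_one_of_mem_omegaZ {L : Type u} [Group L] {S : Subgroup L} {x : L}
    (hx : x ∈ PLocal.omegaZ p S) : x ^ p = 1 :=
  (PLocal.isEA_closure (X := {x : L | x ∈ S ⊓ centralizer (S : Set L) ∧ x ^ p = 1})
    (fun _ hy _ hz => mem_centralizer_iff.1 hz.1.2 _ hy.1.1) fun _ hy => hy.2).2 x hx

theorem omegaZ_characteristic {L : Type u} [Group L] [Finite L] (S : Subgroup L) :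
    ((PLocal.omegaZ p S).subgroupOf S).Characteristic := by
  refine characteristic_iff_le_comap.2 fun φ x hx => ?_
  have h1 := PLocal.omegaZ_le S hx
  refine Subgroup.subset_closure ⟨⟨(φ x).2, mem_centralizer_iff.2 fun y hy => ?_⟩, ?_⟩
  · have h2 : φ.symm ⟨y, hy⟩ * x = x * φ.symm ⟨y, hy⟩ :=
      Subtype.ext (mem_centralizer_iff.1 h1.2 _ (φ.symm ⟨y, hy⟩).2)
    have h3 := congrArg φ h2
    rw [map_mul, map_mul, MulEquiv.apply_symm_apply] at h3
    exact congrArg Subtype.val h3
  · have h2 : x ^ p = 1 := Subtype.ext (pow_eq_one_of_mem_omegaZ hx)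
    have h3 : (φ x) ^ p = 1 := by rw [← map_pow, h2, map_one]
    exact congrArg Subtype.val h3

theorem omegaZ_le_thompson {L : Type u} [Group L] [Finite L] (S : Subgroup L) :
    PLocal.omegaZ p S ≤ thompsonSubgroupOf p S := by
  intro x hx
  have h1 := PLocal.omegaZ_le S hx
  refine ⟨⟨x, h1.1⟩, PLocal.mem_thompsonSubgroup_of_centralizes ?_ (Subtype.ext ?_), rfl⟩
  · exact mem_centralizer_iff.2 fun y _ => Subtype.ext (mem_centralizer_iff.1 h1.2 _ y.2)
  · exact pow_eq_one_of_mem_omegaZ hx

theorem omegaZ_ne_bot {L : Type u} [Group L] [Finite L] {S : Subgroup L} (hS : IsPGroup p S)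
    (hne : S ≠ ⊥) : PLocal.omegaZ p S ≠ ⊥ := by
  haveI : Nontrivial S := S.nontrivial_iff_ne_bot.2 hne
  haveI := hS.center_nontrivial
  obtain ⟨k, hk⟩ := IsPGroup.iff_card.1 (hS.to_subgroup (Subgroup.center S))
  have hk0 : k ≠ 0 := by
    rintro rfl
    exact (Finite.one_lt_card (α := Subgroup.center S)).ne' (by simpa using hk)
  obtain ⟨z, hz⟩ := exists_prime_orderOf_dvd_card' (G := Subgroup.center S) p (hk ▸ dvd_pow_self p hk0)
  intro hb
  have h1 : z ^ p = 1 := by rw [← hz]; exact pow_orderOf_eq_one z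
  have h2 : ((z : S) : L) ∈ PLocal.omegaZ p S := Subgroup.subset_closure
    ⟨⟨z.1.2, mem_centralizer_iff.2 fun y hy =>
      congrArg Subtype.val (mem_center_iff.1 z.2 ⟨y, hy⟩)⟩,
      congrArg (fun w : Subgroup.center S => ((w : S) : L)) h1⟩
  rw [hb, mem_bot] at h2
  have : z = 1 := Subtype.ext (Subtype.ext h2)
  rw [this, orderOf_one] at hz
  exact hp.out.one_lt.ne hz

theorem exists_char (hpq : p ≠ q) (h23 : ¬ ((p = 2 ∧ q = 3) ∨ (p = 3 ∧ q = 2))) :
    ∀ (n : ℕ) (L : Type u) [Group L] [Finite L], Nat.card L = n → TwoPrime p q (Nat.card L) →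
      q ∣ (pPrimeCore p L).index → ∀ S : Sylow p L, HasChar p q (S : Subgroup L) := by
  intro n
  induction n using Nat.strong_induction_on with
  | _ n ih =>
    intro L _ _ hn hL hqO S
    subst hn
    have hlt : ∀ M : Subgroup L, M ≠ ⊥ → M.index < Nat.card L := by
      intro M hM
      conv_rhs => rw [← M.index_mul_card]
      exact lt_mul_right (Nat.pos_of_ne_zero M.index_ne_zero_of_finite) (M.one_lt_card_iff_ne_bot.2 hM)
    have hcop := Core.card_pPrimeCore_coprime p L
    by_cases hO : pPrimeCore p L = ⊥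
    swap
    · have h1 := ih _ ((pPrimeCore p L).index_eq_card ▸ hlt _ hO) (L ⧸ pPrimeCore p L) rfl
        ((pPrimeCore p L).index_eq_card ▸ hL.of_dvd (Subgroup.index_dvd_card _))
        (by rw [Core.pPrimeCore_quotient_pPrimeCore, index_bot, ← index_eq_card]; exact hqO)
        (S.mapSurjective (QuotientGroup.mk'_surjective _))
      rw [Sylow.coe_mapSurjective] at h1
      refine hasChar_lift _ _ ?_ S.isPGroup' (Or.inl hcop) h1
      have h2 : (pPrimeCore p L).subgroupOf (S : Subgroup L) = ⊥ := by
        rw [subgroupOf_eq_bot, disjoint_iff, ← card_eq_one]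
        obtain ⟨k, hk⟩ := IsPGroup.iff_card.1 S.isPGroup'
        exact Nat.eq_one_of_dvd_coprimes (hcop.pow_right k) (card_dvd_of_le inf_le_left)
          (hk ▸ card_dvd_of_le inf_le_right)
      rw [h2]; infer_instance
    rw [hO, index_bot] at hqO
    set J := thompsonSubgroupOf p (S : Subgroup L) with hJ
    set Z := PLocal.omegaZ p (S : Subgroup L) with hZ
    have hJS : J ≤ S := map_subtype_le _
    have hJsub : J.subgroupOf S = thompsonSubgroup p (S : Subgroup L) :=
      comap_map_eq_self_of_injective (S : Subgroup L).subtype_injective _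
    by_cases hqJ : q ∣ (centralizer (J : Set L)).relIndex (normalizer (J : Set L))
    · exact ⟨J, hJS, by rw [hJsub]; infer_instance, hqJ⟩
    have hZS : Z ≤ S := (PLocal.omegaZ_le _).trans inf_le_left
    have hSZ : (S : Subgroup L) ≤ centralizer (Z : Set L) :=
      le_centralizer_iff.1 ((PLocal.omegaZ_le _).trans inf_le_right)
    have hSJ : (S : Subgroup L) ≤ normalizer (J : Set L) := fun g hg => by
      refine mem_normalizer_fintype fun t ht => ?_
      obtain ⟨t', ht', rfl⟩ := ht
      exact ⟨⟨g, hg⟩ * t' * ⟨g, hg⟩⁻¹, Normal.conj_mem inferInstance t' ht' _, rfl⟩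
    have hNJ : normalizer (J : Set L) ≤ centralizer (Z : Set L) := by
      rw [← relIndex_eq_one, Nat.eq_one_iff_not_exists_prime_dvd]
      intro t ht htd
      have h1 : (centralizer (Z : Set L)).relIndex (normalizer (J : Set L)) ∣ Nat.card L :=
        (relIndex_dvd_card _ _).trans (card_subgroup_dvd_card _)
      rcases hL t ht (htd.trans h1) with rfl | rfl
      · exact S.not_dvd_index ((htd.trans (relIndex_dvd_of_le_left _ hSZ)).trans
          (relIndex_dvd_index_of_le hSJ))
      · exact hqJ (htd.trans (relIndex_dvd_of_le_left _ (centralizer_le (omegaZ_le_thompson _))))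
    have hcen : ∀ g : L, g ∈ centralizer (Z : Set L) := by
      intro g
      obtain ⟨x, hx, c, hc, m, hm, rfl⟩ := factorizable_of_twoPrime hpq h23 hL hO S g
      rw [hO, mem_bot] at hx
      rw [hx, one_mul]
      exact mul_mem hc (hNJ hm)
    haveI hZn : Z.Normal := ⟨fun z hz g => by
      rw [← mem_centralizer_iff.1 (hcen g) z hz, mul_inv_cancel_right]; exact hz⟩
    have hSne : (S : Subgroup L) ≠ ⊥ := by
      intro hb
      have h1 : Nat.card L ∣ 1 := by
        rw [← Subgroup.card_bot (G := L), ← hO, ← Subgroup.card_top (G := L)]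
        refine card_dvd_of_le (Core.le_pPrimeCore inferInstance ?_)
        rw [Subgroup.card_top]
        exact ((hp.out.coprime_iff_not_dvd).2 fun hd => S.not_dvd_index (by rwa [hb, index_bot])).symm
      exact hq.out.one_lt.ne' (Nat.dvd_one.1 (hqO.trans h1))
    have hZne : Z ≠ ⊥ := omegaZ_ne_bot S.isPGroup' hSne
    have hqR : q ∣ (pPrimeCore p (L ⧸ Z)).index := by
      by_contra hnq
      set R := (pPrimeCore p (L ⧸ Z)).comap (QuotientGroup.mk' Z) with hR
      have hRi : R.index = (pPrimeCore p (L ⧸ Z)).index :=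
        index_comap_of_surjective _ (QuotientGroup.mk'_surjective Z)
      have hZR : Z ≤ R := (QuotientGroup.ker_mk' Z).ge.trans (MonoidHom.ker_le_comap _ _)
      obtain ⟨Q⟩ := (inferInstance : Nonempty (Sylow q R))
      have hQn : normalizer ((Q : Subgroup R) : Set R) = ⊤ := by
        rw [← index_eq_one, Nat.eq_one_iff_not_exists_prime_dvd]
        intro t ht htd
        have h1 : (normalizer ((Q : Subgroup R) : Set R)).index ∣ (Z.subgroupOf R).index :=
          index_dvd_of_le fun z hz => mem_normalizer_fintype fun w hw => by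
            have h2 : z * w = w * z := Subtype.ext (mem_centralizer_iff.1 (hcen w) _ hz)
            rw [h2, mul_inv_cancel_right]; exact hw
        have h3 : (Z.subgroupOf R).index = Nat.card (pPrimeCore p (L ⧸ Z)) := by
          have := relIndex_comap (⊥ : Subgroup (L ⧸ Z)) (QuotientGroup.mk' Z) R
          rw [MonoidHom.comap_bot, QuotientGroup.ker_mk', hR,
            map_comap_eq_self_of_surjective (QuotientGroup.mk'_surjective Z), relIndex_bot_left] at this
          exact this
        rcases hL t ht ((htd.trans (index_dvd_card _)).trans (card_subgroup_dvd_card R)) with rfl | rfl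
        · exact (hp.out.coprime_iff_not_dvd.1 (Core.card_pPrimeCore_coprime _ (L ⧸ Z)).symm)
            (h3 ▸ htd.trans h1)
        · exact Q.not_dvd_index (htd.trans (index_dvd_of_le le_normalizer))
      haveI : (Q : Subgroup R).Normal := normalizer_eq_top_iff.1 hQn
      haveI : (Q : Subgroup R).Characteristic := Q.characteristic_of_normal inferInstance
      haveI : R.Normal := Normal.comap inferInstance _
      have hQ1 : (Q : Subgroup R).map R.subtype = ⊥ := le_bot_iff.1 (hO ▸ Core.le_pPrimeCore inferInstance (by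
        rw [card_map_of_injective R.subtype_injective]
        obtain ⟨k, hk⟩ := IsPGroup.iff_card.1 Q.isPGroup'
        rw [hk]; exact Nat.Coprime.pow_left k ((Nat.coprime_primes hq.out hp.out).2 hpq.symm)))
      have h4 : ¬ q ∣ Nat.card R := by
        have := Q.not_dvd_index
        rwa [(map_eq_bot_iff_of_injective _ R.subtype_injective).1 hQ1, index_bot] at this
      rw [← R.card_mul_index, hq.out.dvd_mul, hRi] at hqO
      exact hqO.elim h4 hnq
    have h1 := ih _ (Z.index_eq_card ▸ hlt Z hZne) (L ⧸ Z) rfl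
      (Z.index_eq_card ▸ hL.of_dvd (Subgroup.index_dvd_card _)) hqR
      (S.mapSurjective (QuotientGroup.mk'_surjective _))
    rw [Sylow.coe_mapSurjective] at h1
    exact hasChar_lift _ Z (omegaZ_characteristic _) S.isPGroup' (Or.inr hZS) h1

end Cfsg.Agent.FGS4.AlperinAutomizer
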