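import Cfsg.Agent.FGS4.AlperinAutomizer.Char
import Cfsg.Agent.PLocal.Constrained

/-! # Prime divisors of automizers descend to subgroups normal in a Sylow subgroup -/

set_option linter.style.haveILetI false

namespace Cfsg.Agent.FGS4.AlperinAutomizer

open Subgroup Cfsg

universe u

variable {p q : ℕ} [hp : Fact p.Prime] [hq : Fact q.Prime]
variable {G : Type u} [Group G]

theorem relIndex_dvd_of_subgroupOf_normal {C A N : Subgroup G} (hn : (C.subgroupOf N).Normal) (h : A ≤ N) :
    C.relIndex A ∣ C.relIndex N := by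
  haveI := hn
  rw [← Subgroup.relIndex_subgroupOf h (H := C)]
  exact relIndex_dvd_index_of_normal _ _

theorem relIndex_map_dvd {L : Type u} [Group L] (ι : L →* G) (hι : Function.Injective ι) (K : Subgroup L) :
    (centralizer (K : Set L)).relIndex (normalizer (K : Set L)) ∣
      (centralizer ((K.map ι : Subgroup G) : Set G)).relIndex (normalizer ((K.map ι : Subgroup G) : Set G)) := by
  have h1 : (centralizer ((K.map ι : Subgroup G) : Set G)).comap ι = centralizer (K : Set L) := by
    ext x
    rw [mem_comap, mem_centralizer_iff, mem_centralizer_iff]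
    refine ⟨fun h k hk => hι ?_, ?_⟩
    · rw [map_mul, map_mul]; exact h _ (mem_map_of_mem _ hk)
    · rintro h _ ⟨k, hk, rfl⟩
      rw [← map_mul, ← map_mul, h k hk]
  rw [← h1, relIndex_comap]
  exact relIndex_dvd_of_subgroupOf_normal inferInstance (le_normalizer_map ι)

theorem le_normalizer_map_of_char {L : Type u} [Group L] [Finite G] (ι : L →* G) (hι : Function.Injective ι)
    {S K : Subgroup L} (hKS : K ≤ S) (hK : (K.subgroupOf S).Characteristic) :
    normalizer ((S.map ι : Subgroup G) : Set G) ≤ normalizer ((K.map ι : Subgroup G) : Set G) := by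
  intro g hg
  have hmap : (S.map ι).map (MulAut.conj g).toMonoidHom = S.map ι := by
    ext x
    rw [Coprime.map_conj_mem, mem_normalizer_iff.1 hg (g⁻¹ * x * g),
      show g * (g⁻¹ * x * g) * g⁻¹ = x by group]
  let e := S.equivMapOfInjective ι hι
  let φ : S ≃* S :=
    (e.trans (((MulAut.conj g).subgroupMap (S.map ι)).trans (MulEquiv.subgroupCongr hmap))).trans e.symm
  have hφ : ∀ s : S, ι (φ s) = g * ι s * g⁻¹ := by
    intro s
    have h1 := S.coe_equivMapOfInjective_apply ι hι (φ s)
    rw [show e (φ s) = MulEquiv.subgroupCongr hmap ((MulAut.conj g).subgroupMap (S.map ι) (e s)) from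
      e.apply_symm_apply _] at h1
    rw [← h1]
    rfl
  refine mem_normalizer_fintype fun t ht => ?_
  obtain ⟨k, hk, rfl⟩ := ht
  have h2 : φ ⟨k, hKS hk⟩ ∈ K.subgroupOf S := by
    have h3 : (⟨k, hKS hk⟩ : S) ∈ K.subgroupOf S := hk
    rw [← characteristic_iff_comap_eq.1 hK φ] at h3
    exact h3
  exact ⟨_, h2, hφ ⟨k, hKS hk⟩⟩

theorem exists_overgroup_char [Finite G] (hpq : p ≠ q)
    (h23 : ¬ ((p = 2 ∧ q = 3) ∨ (p = 3 ∧ q = 2))) {H : Subgroup G} (hH : IsPGroup p H)
    (hs : IsPSolvable p (normalizer (H : Set G) ⧸ (centralizer (H : Set G)).subgroupOf (normalizer (H : Set G))))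
    (hq' : q ∣ ((centralizer (H : Set G)).subgroupOf (normalizer (H : Set G))).index) :
    ∃ S K : Subgroup G, IsPGroup p S ∧
      Nat.card S = p ^ (Nat.card (normalizer (H : Set G))).factorization p ∧ K ≤ S ∧
      normalizer (S : Set G) ≤ normalizer (K : Set G) ∧
      q ∣ (centralizer (K : Set G)).relIndex (normalizer (K : Set G)) := by
  set N := normalizer (H : Set G) with hN
  set C := (centralizer (H : Set G)).subgroupOf N with hC
  haveI : C.Normal := inferInstance
  haveI hHn : (H.subgroupOf N).Normal := normal_in_normalizer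
  obtain ⟨Pn⟩ := (inferInstance : Nonempty (Sylow p N))
  obtain ⟨PC, hPC⟩ := PLocal.exists_sylow_inf Pn C
  set Tn := (Pn : Subgroup N) ⊓ C with hTn
  set U := normalizer (Tn : Set N) with hU
  have hPU : (Pn : Subgroup N) ≤ U := fun x hx => mem_normalizer_fintype fun t ht =>
    ⟨(Pn : Subgroup N).mul_mem ((Pn : Subgroup N).mul_mem hx ht.1) ((Pn : Subgroup N).inv_mem hx),
      Normal.conj_mem inferInstance t ht.2 x⟩
  have hUC : U ⊔ C = ⊤ := by rw [hU, ← hPC]; exact Sylow.normalizer_sup_eq_top PC
  haveI : (C.subgroupOf U).Normal := inferInstance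
  have hUs : IsPSolvable p U := by
    refine Core.isPSolvable_of_normal (C.subgroupOf U) ?_ ?_
    · let T' := (Tn.subgroupOf U).subgroupOf (C.subgroupOf U)
      haveI : (Tn.subgroupOf U).Normal := normal_in_normalizer
      haveI : T'.Normal := inferInstance
      refine Core.isPSolvable_of_normal T' ?_ ?_
      · refine Core.isPSolvable_iff.2 (Core.isPiSeparable_of_isPiNat ?_)
        have hTp : IsPGroup p Tn := Pn.isPGroup'.to_le inf_le_left
        have h1 : IsPGroup p (Tn.subgroupOf U) := hTp.comap_of_injective _ U.subtype_injective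
        obtain ⟨k, hk⟩ := IsPGroup.iff_card.1 (h1.comap_of_injective _ (C.subgroupOf U).subtype_injective)
        exact hk ▸ Core.isPiNat_prime_pow hp.out (Set.mem_singleton p) k
      · refine Core.isPSolvable_iff.2 ?_
        have h1 : Core.IsPiNat ({p} : Set ℕ)ᶜ (Nat.card (↥(C.subgroupOf U) ⧸ T')) := by
          rw [← index_eq_card]
          intro t ht htd hte
          rw [Set.mem_singleton_iff] at hte
          subst hte
          have h2 : T'.index ∣ (Tn.subgroupOf C).index := by
            show (Tn.subgroupOf U).relIndex (C.subgroupOf U) ∣ Tn.relIndex C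
            rw [subgroupOf, relIndex_comap, show C.subgroupOf U = C.comap U.subtype from rfl, map_comap_eq,
              range_subtype]
            have h3 := relIndex_mul_relIndex Tn (U ⊓ C) C (le_inf le_normalizer inf_le_right) inf_le_right
            exact ⟨_, h3.symm⟩
          have h4 : (Tn.subgroupOf C) = (PC : Subgroup C) := by
            rw [← hPC, subgroupOf, comap_map_eq_self_of_injective C.subtype_injective]
          exact PC.not_dvd_index (h4 ▸ htd.trans h2)
        have h2 := Core.isPiSeparable_compl (Core.isPiSeparable_of_isPiNat h1)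
        rwa [compl_compl] at h2
    · set f := (QuotientGroup.mk' C).comp U.subtype with hf
      have hfs : Function.Surjective f := by
        rw [← MonoidHom.range_eq_top, hf, MonoidHom.range_comp, range_subtype]
        have h1 := QuotientGroup.map_mk'_self C
        rw [← sup_bot_eq (a := U.map (QuotientGroup.mk' C)), ← h1, ← Subgroup.map_sup, hUC,
          ← MonoidHom.range_eq_map, MonoidHom.range_eq_top.2 (QuotientGroup.mk'_surjective C)]
      have hfk : f.ker = C.subgroupOf U := by
        rw [hf, ← MonoidHom.comap_ker, QuotientGroup.ker_mk']; rfl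
      exact Core.isPSolvable_congr
        ((QuotientGroup.quotientKerEquivOfSurjective f hfs).symm.trans (QuotientGroup.quotientMulEquivOfEq hfk)) hs
  have hUq : q ∣ (C.subgroupOf U).index := by
    show q ∣ C.relIndex U
    rw [← relIndex_sup_right (K := C) (H := U), hUC, relIndex_top_right]
    exact hq'
  obtain ⟨L, hL, ⟨P, hP⟩, hqL⟩ := exists_good _ U rfl hUs hpq (C.subgroupOf U) hUq
  set PL := P.subtype hP with hPL
  let ι : L →* G := N.subtype.comp (U.subtype.comp L.subtype)
  have hι : Function.Injective ι :=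
    N.subtype_injective.comp (U.subtype_injective.comp L.subtype_injective)
  -- `H` inside `L`
  have hcardP : Nat.card (PL : Subgroup L) = p ^ (Nat.card N).factorization p := by
    rw [hPL, Sylow.coe_subtype, Nat.card_congr (subgroupOfEquivOfLe hP).toEquiv, ThreeSizes.sylow_card_eq P,
      ThreeSizes.fact_card_mul U p, Nat.factorization_eq_zero_of_not_dvd (fun hd =>
        Pn.not_dvd_index (hd.trans (index_dvd_of_le hPU))), add_zero]
  have hHP : ∀ h : G, h ∈ H → ∃ x : L, x ∈ (PL : Subgroup L) ∧ ι x = h := by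
    intro h hh
    have hc : Nat.card ((P : Subgroup U).map U.subtype) = p ^ (Nat.card N).factorization p := by
      rw [card_map_of_injective U.subtype_injective, ← Nat.card_congr (subgroupOfEquivOfLe hP).toEquiv,
        ← Sylow.coe_subtype P hP]
      exact hcardP
    obtain ⟨x, hx, hxe⟩ : (⟨h, le_normalizer hh⟩ : N) ∈ (P : Subgroup U).map U.subtype :=
      (Core.le_pCore hHn (hH.comap_of_injective _ N.subtype_injective)).trans
        (Core.pCore_le_sylow (Sylow.ofCard _ hc)) hh
    exact ⟨⟨x, hP hx⟩, hx, congrArg Subtype.val hxe⟩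
  have hO : q ∣ (pPrimeCore p L).index := by
    refine hqL.trans (index_dvd_of_le (H := pPrimeCore p L) (K := (C.subgroupOf U).subgroupOf L) ?_)
    intro o ho
    show ((o : U) : N).1 ∈ centralizer (H : Set G)
    rw [mem_centralizer_iff]
    intro h hh
    obtain ⟨x, -, rfl⟩ := hHP h hh
    haveI : (H.comap ι).Normal := ⟨fun z hz g => by
      show ι (g * z * g⁻¹) ∈ H
      rw [map_mul, map_mul, map_inv]
      exact (mem_normalizer_iff.1 ((g : U) : N).2 (ι z)).1 hz⟩
    have hd : Disjoint (pPrimeCore p L) (H.comap ι) := by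
      rw [disjoint_iff, ← card_eq_one]
      obtain ⟨k, hk⟩ := IsPGroup.iff_card.1 (hH.comap_of_injective ι hι)
      exact Nat.eq_one_of_dvd_coprimes ((Core.card_pPrimeCore_coprime p L).pow_right k)
        (card_dvd_of_le inf_le_left) (hk ▸ card_dvd_of_le inf_le_right)
    have h1 := (commute_of_normal_of_disjoint _ _ inferInstance inferInstance hd o x ho hh).eq
    have h2 := congrArg ι h1
    rw [map_mul, map_mul] at h2
    exact h2.symm
  obtain ⟨K, hK, hKc, hKq⟩ := exists_char hpq h23 _ L rfl hL hO PL
  refine ⟨(PL : Subgroup L).map ι, K.map ι, PL.isPGroup'.map ι, ?_, map_mono hK,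
    le_normalizer_map_of_char ι hι hK hKc, hKq.trans (relIndex_map_dvd ι hι K)⟩
  rw [card_map_of_injective hι]
  exact hcardP

theorem prime_divisor_of_automizer [Finite G] (hpq : p ≠ q)
    (h23 : ¬ ((p = 2 ∧ q = 3) ∨ (p = 3 ∧ q = 2)))
    (hsol : ∀ H : Subgroup G, IsPGroup p H →
      IsPSolvable p (normalizer (H : Set G) ⧸ (centralizer (H : Set G)).subgroupOf (normalizer (H : Set G))))
    (H₀ : Subgroup G) (hH₀ : IsPGroup p H₀)
    (hq₀ : q ∣ ((centralizer (H₀ : Set G)).subgroupOf (normalizer (H₀ : Set G))).index)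
    (Gp : Sylow p G) :
    ∃ K : Subgroup G, K ≤ (Gp : Subgroup G) ∧ (Gp : Subgroup G) ≤ normalizer (K : Set G) ∧
      q ∣ (centralizer (K : Set G)).relIndex (normalizer (K : Set G)) := by
  obtain ⟨H, ⟨hH, hHq⟩, hmax⟩ := Set.Finite.exists_maximalFor
    (fun H : Subgroup G => (Nat.card (normalizer (H : Set G))).factorization p)
    {H | IsPGroup p H ∧ q ∣ ((centralizer (H : Set G)).subgroupOf (normalizer (H : Set G))).index}
    (Set.toFinite _) ⟨H₀, hH₀, hq₀⟩
  have main : ∃ (T : Sylow p G) (K : Subgroup G), K ≤ (T : Subgroup G) ∧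
      (T : Subgroup G) ≤ normalizer (K : Set G) ∧
      q ∣ (centralizer (K : Set G)).relIndex (normalizer (K : Set G)) := by
    set v := (Nat.card (normalizer (H : Set G))).factorization p with hv
    by_cases hvG : v = (Nat.card G).factorization p
    · obtain ⟨Pn⟩ := (inferInstance : Nonempty (Sylow p (normalizer (H : Set G))))
      have hc : Nat.card ((Pn : Subgroup (normalizer (H : Set G))).map (normalizer (H : Set G)).subtype) =
          p ^ (Nat.card G).factorization p := by
        rw [card_map_of_injective (subtype_injective _), ThreeSizes.sylow_card_eq Pn, ← hvG]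
      refine ⟨Sylow.ofCard _ hc, H, fun h hh => ?_, map_subtype_le _, hHq⟩
      exact ⟨⟨h, le_normalizer hh⟩,
        (Core.le_pCore normal_in_normalizer (hH.comap_of_injective _ (subtype_injective _))).trans
          (Core.pCore_le_sylow Pn) hh, rfl⟩
    · exfalso
      obtain ⟨S, K, hSp, hSc, hKS, hSK, hKq⟩ := exists_overgroup_char hpq h23 hH (hsol H hH) hHq
      obtain ⟨T, hT⟩ := hSp.exists_le_sylow
      haveI : Group.IsNilpotent (T : Subgroup G) := T.isPGroup'.isNilpotent
      have hne : S.subgroupOf T ≠ ⊤ := by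
        intro e
        have h1 : (T : Subgroup G) = S := le_antisymm (subgroupOf_eq_top.1 e) hT
        have h2 := ThreeSizes.sylow_card_eq T
        rw [h1, hSc] at h2
        exact hvG (Nat.pow_right_injective hp.out.two_le h2)
      have hlt := Group.normalizerCondition_of_isNilpotent (S.subgroupOf T) (lt_top_iff_ne_top.2 hne)
      obtain ⟨y, hy, hyS⟩ := SetLike.exists_of_lt hlt
      have hyn : (y : G) ∈ normalizer (S : Set G) := by
        refine mem_normalizer_fintype fun t ht => ?_
        exact (mem_normalizer_iff.1 hy ⟨t, hT ht⟩).1 ht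
      set R := (T : Subgroup G) ⊓ normalizer (S : Set G) with hR
      obtain ⟨j, hj⟩ := IsPGroup.iff_card.1 (T.isPGroup'.to_le (inf_le_left : R ≤ T))
      have hSR : S < R := lt_of_le_of_ne (le_inf hT le_normalizer) fun e =>
        hyS (show (y : G) ∈ S from e ▸ ⟨y.2, hyn⟩)
      have h1 : v < j := by
        have h2 : Nat.card S < Nat.card R := Set.Finite.card_lt_card (Set.toFinite _) hSR
        rw [hSc, hj] at h2
        exact (Nat.pow_lt_pow_iff_right hp.out.one_lt).1 h2
      have h2 : p ^ j ∣ Nat.card (normalizer (K : Set G)) :=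
        hj ▸ card_dvd_of_le (inf_le_right.trans hSK)
      have h3 : j ≤ (Nat.card (normalizer (K : Set G))).factorization p :=
        (hp.out.pow_dvd_iff_le_factorization Nat.card_pos.ne').1 h2
      have h4 := hmax (j := K) ⟨hSp.to_le hKS, hKq⟩ (le_trans h1.le h3)
      exact absurd (lt_of_lt_of_le h1 h3) (not_lt.2 h4)
  obtain ⟨T, K, hKT, hTK, hKq⟩ := main
  obtain ⟨g, hg⟩ := MulAction.exists_smul_eq G T Gp
  have hGp : (Gp : Subgroup G) = (T : Subgroup G).map (MulAut.conj g).toMonoidHom := by
    rw [← hg, Sylow.coe_subgroup_smul]; rfl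
  refine ⟨K.map (MulAut.conj g).toMonoidHom, ?_, ?_,
    hKq.trans (relIndex_map_dvd _ (MulAut.conj g).injective K)⟩
  · rw [hGp]; exact map_mono hKT
  · rw [hGp]
    exact (map_mono hTK).trans (le_normalizer_map _)

end Cfsg.Agent.FGS4.AlperinAutomizer
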